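import Mathlib

/-!
A certificate for the group of the elliptic quadric in four dimensions over three elements:
twenty-eight elements any two of which differ by a matrix generating, together with a fixed matrix
of order five, a root element.
-/

set_option autoImplicit false
set_option maxRecDepth 10000

namespace Cfsg.Agent.MaxSub.OrthFour.HalfThree.Cert

/-- Matrices of one site over the prime field. -/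
abbrev Z4 : Type := Matrix (Fin 4) (Fin 4) (ZMod 3)

/-- The weights of the quadric. -/
def w4 : Fin 4 → ZMod 3 := ![2, 1, 1, 1]

/-- The bilinear form. -/
def b4 (x y : Fin 4 → ZMod 3) : ZMod 3 :=
  2 * x 0 * y 0 + x 1 * y 1 + x 2 * y 2 + x 3 * y 3

/-- The Gram matrix. -/
def gM : Z4 := Matrix.diagonal w4

/-- The inverse of an isometry. -/
def adj (A : Z4) : Z4 := Matrix.of fun i j => w4 i * A j i * w4 j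

/-- The root element of a singular vector and a vector orthogonal to it. -/
def uM (u y : Fin 4 → ZMod 3) : Z4 := Matrix.of fun i j =>
  (if i = j then 1 else 0) + (y i * u j * w4 j - u i * y j * w4 j - 2 * b4 y y * (u i * u j * w4 j))

/-- The matrix of order five. -/
def sM : Z4 := !![0,0,1,1;1,0,1,2;1,0,2,1;0,2,0,0]

/-- The twenty-eight matrices. -/
def hs : Fin 28 → Z4 := ![
  !![2,2,2,2;2,0,1,1;2,1,1,0;1,2,0,2],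
  !![1,0,0,0;0,0,0,1;0,1,0,0;0,0,1,0],
  !![1,2,2,1;2,2,0,1;2,2,2,0;1,0,1,2],
  !![1,1,2,2;1,2,1,0;1,0,1,1;1,2,0,1],
  !![0,1,2,0;0,0,0,1;2,2,2,0;2,1,1,0],
  !![2,1,1,1;2,2,0,2;1,0,1,1;1,1,1,0],
  !![2,2,2,2;1,2,0,2;2,0,1,1;2,1,1,0],
  !![2,1,2,2;2,0,1,1;1,1,2,0;1,1,0,2],
  !![0,1,2,0;1,2,2,0;0,0,0,2;2,2,2,0],
  !![1,2,1,2;2,2,1,0;2,0,1,2;1,1,0,1],
  !![0,0,1,2;2,0,2,2;2,0,1,1;0,1,0,0],
  !![2,1,1,1;2,0,2,2;2,2,2,0;2,2,0,2],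
  !![0,0,1,2;0,2,0,0;1,0,1,1;2,0,1,1],
  !![1,2,1,2;2,2,0,2;1,1,2,0;2,0,1,2],
  !![2,2,2,2;1,2,2,0;2,1,0,1;2,0,1,1],
  !![0,1,0,1;0,0,1,0;1,2,0,1;2,2,0,1],
  !![2,1,2,2;2,2,0,1;2,0,1,1;2,2,1,0],
  !![2,1,2,2;2,2,1,0;2,2,0,1;2,0,1,1],
  !![2,1,1,1;2,2,2,0;1,1,0,1;1,0,1,1],
  !![1,1,2,1;1,0,1,2;1,2,0,2;2,1,2,0],
  !![1,1,2,1;1,2,0,2;2,1,2,0;1,0,1,2],
  !![2,0,0,0;0,0,1,0;0,2,0,0;0,0,0,2],
  !![1,1,2,1;1,2,1,0;2,0,2,1;1,2,0,2],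
  !![1,1,2,2;2,1,0,2;2,1,2,0;1,0,1,1],
  !![2,0,0,0;0,0,0,2;0,0,2,0;0,1,0,0],
  !![0,1,1,0;0,0,0,1;1,1,2,0;2,1,2,0],
  !![1,1,2,2;2,0,2,2;1,2,0,1;2,1,2,0],
  !![1,2,1,2;2,0,1,2;2,2,0,2;1,1,2,0]]

/-- The generators of the certificate words. -/
def gens (i j : Fin 28) : Fin 6 → Z4 :=
  ![adj (hs i) * hs j, adj (hs j) * hs i, sM, sM * sM, sM * sM * sM, sM * sM * sM * sM]

/-- The value of a word. -/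
def ev (i j : Fin 28) : List (Fin 6) → Z4
  | [] => 1
  | k :: l => gens i j k * ev i j l

/-- An entry of the certificate. -/
abbrev Item : Type := (Fin 28 × Fin 28) × List (Fin 6) × (Fin 4 → ZMod 3) × (Fin 4 → ZMod 3)

/-- Validity of an entry. -/
def Good (e : Item) : Prop :=
  ev e.1.1 e.1.2 e.2.1 = uM e.2.2.1 e.2.2.2 ∧ e.2.2.1 ≠ 0 ∧ b4 e.2.2.1 e.2.2.1 = 0 ∧
    b4 e.2.2.1 e.2.2.2 = 0 ∧ b4 e.2.2.2 e.2.2.2 ≠ 0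

instance (e : Item) : Decidable (Good e) := by unfold Good; infer_instance

/-- A part of the certificate. -/
def part0 : List Item := [
  ((0,1),[0],![1,0,1,0],![0,2,0,2]),
  ((0,2),[0],![1,0,0,2],![0,1,1,0]),
  ((0,3),[0],![1,2,0,0],![0,0,0,2]),
  ((0,4),[0,0,2,0,4],![1,0,2,0],![0,1,0,0]),
  ((0,5),[0,2],![1,0,2,0],![0,2,0,1]),
  ((0,6),[0],![1,0,2,0],![0,1,0,2]),
  ((0,7),[0],![1,0,1,0],![0,1,0,0]),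
  ((0,8),[0,2,1,3],![1,0,1,0],![0,0,0,1]),
  ((0,9),[0],![1,0,2,0],![0,1,0,1]),
  ((0,10),[0,3],![1,0,2,0],![0,1,0,0]),
  ((0,11),[0,2],![1,0,0,2],![0,2,1,0]),
  ((0,12),[0,0,2,0,3],![1,2,0,0],![0,0,0,1]),
  ((0,13),[0,0,2,0,3],![0,1,1,1],![1,0,1,2]),
  ((0,14),[0],![1,2,0,0],![0,0,1,2]),
  ((0,15),[0],![1,0,0,1],![0,1,2,0]),
  ((0,16),[0,2,1,3],![0,1,1,1],![1,0,1,2]),
  ((0,17),[0,4],![1,2,0,0],![0,0,1,0]),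
  ((0,18),[0,0,2,1,3],![1,0,0,2],![0,2,0,0]),
  ((0,19),[0,0,2,0,3],![1,2,0,0],![0,0,0,1]),
  ((0,20),[0,2,1,3],![0,1,1,2],![0,0,2,2]),
  ((0,21),[0,3],![0,1,2,1],![0,0,1,1]),
  ((0,22),[0],![0,1,2,2],![2,0,1,2]),
  ((0,23),[0,2],![1,1,0,0],![0,0,2,0]),
  ((0,24),[0],![0,1,1,1],![2,0,2,1]),
  ((0,25),[0],![1,0,1,0],![0,1,0,2]),
  ((0,26),[0,3],![0,1,2,2],![2,0,2,1]),
  ((0,27),[0,2],![1,1,0,0],![0,0,0,2]),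
  ((1,2),[0,3],![1,0,2,0],![0,1,0,0]),
  ((1,3),[0,2,1,3],![1,0,0,1],![0,0,1,0]),
  ((1,4),[0],![1,1,0,0],![0,0,1,0]),
  ((1,5),[0,2,1,3],![1,2,0,0],![0,0,1,0]),
  ((1,6),[0,2],![0,1,2,2],![1,0,1,2]),
  ((1,7),[0],![1,0,1,0],![0,2,0,1]),
  ((1,8),[0,2],![1,0,2,0],![0,0,0,2]),
  ((1,9),[0],![0,1,2,1],![2,0,0,0]),
  ((1,10),[0,0,2,0,3],![1,0,0,2],![0,2,2,0]),
  ((1,11),[0,2],![1,1,0,0],![0,0,1,1]),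
  ((1,12),[0,4],![1,0,0,2],![0,2,1,0]),
  ((1,13),[0,3],![1,0,0,1],![0,0,1,0]),
  ((1,14),[0],![1,0,0,1],![0,1,1,0]),
  ((1,15),[0,2,1,3],![1,1,0,0],![0,0,1,2]),
  ((1,16),[0],![1,2,0,0],![0,0,1,1]),
  ((1,17),[0,2],![1,1,0,0],![0,0,2,0]),
  ((1,18),[0],![1,0,0,2],![0,2,2,0]),
  ((1,19),[0],![0,1,2,1],![1,0,2,2]),
  ((1,20),[0,2,1,3],![0,1,2,1],![2,0,0,0]),
  ((1,21),[0,0,2,0,3],![1,2,0,0],![0,0,0,1]),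
  ((1,22),[0,0,2,0,4],![1,2,0,0],![0,0,1,0]),
  ((1,23),[0,0,2,0,3],![1,0,1,0],![0,0,0,1]),
  ((1,24),[0,0,2,0,3],![1,0,0,2],![0,2,2,0]),
  ((1,25),[0],![1,0,1,0],![0,2,0,0]),
  ((1,26),[0],![0,1,2,2],![1,0,2,1]),
  ((1,27),[0],![0,1,2,1],![2,0,2,2]),
  ((2,3),[0,0,2,1,3],![0,1,1,1],![1,0,0,0]),
  ((2,4),[0],![1,2,0,0],![0,0,0,2]),
  ((2,5),[0,3],![0,1,2,1],![0,0,1,1]),
  ((2,6),[0,2],![1,0,2,0],![0,2,0,1]),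
  ((2,7),[0,0,2,0,3],![0,1,2,2],![1,0,2,1]),
  ((2,8),[0,2],![1,1,0,0],![0,0,2,0]),
  ((2,9),[0],![0,1,2,2],![0,0,2,1]),
  ((2,10),[0],![0,1,2,1],![2,0,0,0]),
  ((2,11),[0],![0,1,2,1],![1,0,2,2]),
  ((2,12),[0],![1,0,0,1],![0,1,2,0])]

theorem part0_good : ∀ e ∈ part0, Good e := by decide +kernel

/-- A part of the certificate. -/
def part1 : List Item := [
  ((2,13),[0,2,1,3],![1,0,0,1],![0,0,1,0]),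
  ((2,14),[0,0,2,1,3],![1,0,0,2],![0,2,0,0]),
  ((2,15),[0,0,2,1,3],![1,0,2,0],![0,2,0,1]),
  ((2,16),[0],![0,1,2,1],![1,0,1,1]),
  ((2,17),[0,0,2,0,3],![1,0,2,0],![0,2,0,1]),
  ((2,18),[0,2,1,3],![0,1,1,1],![1,0,1,2]),
  ((2,19),[0,0,2,0,3],![0,1,2,2],![0,0,1,2]),
  ((2,20),[0],![1,0,0,1],![0,2,0,0]),
  ((2,21),[0],![1,0,2,0],![0,1,0,2]),
  ((2,22),[0,2,1,3],![1,0,1,0],![0,0,0,1]),
  ((2,23),[0,3],![0,1,1,2],![2,0,1,1]),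
  ((2,24),[0,2],![0,1,2,2],![1,0,1,2]),
  ((2,25),[0],![1,2,0,0],![0,0,2,2]),
  ((2,26),[0,2,1,3],![1,2,0,0],![0,0,1,0]),
  ((2,27),[0],![0,1,1,1],![0,0,2,1]),
  ((3,4),[0],![1,0,0,1],![0,2,1,0]),
  ((3,5),[0],![0,1,2,1],![1,0,1,1]),
  ((3,6),[0,2],![1,0,1,0],![0,2,0,2]),
  ((3,7),[0,2],![0,1,1,1],![1,0,2,1]),
  ((3,8),[0],![1,0,0,1],![0,0,2,0]),
  ((3,9),[0,0,2,0,3],![0,1,2,1],![2,0,0,0]),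
  ((3,10),[0,2,1,3],![1,0,1,0],![0,0,0,1]),
  ((3,11),[0,3],![1,2,0,0],![0,0,2,1]),
  ((3,12),[0],![1,0,2,0],![0,2,0,0]),
  ((3,13),[0,2,1,3],![1,0,0,2],![0,2,1,0]),
  ((3,14),[0],![1,2,0,0],![0,0,1,0]),
  ((3,15),[0,0,2,0,3],![1,1,0,0],![0,0,0,2]),
  ((3,16),[0,2,0,3,0,4],![1,2,0,0],![0,0,2,2]),
  ((3,17),[0,3],![1,0,2,0],![0,2,0,1]),
  ((3,18),[0,0,2,0,4],![0,1,1,2],![0,0,2,2]),
  ((3,19),[0,3],![1,0,0,1],![0,1,2,0]),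
  ((3,20),[0,0,2,0,3],![0,1,1,2],![1,0,0,0]),
  ((3,21),[0,2,1,3],![0,1,1,1],![1,0,1,2]),
  ((3,22),[0],![1,0,2,0],![0,0,0,2]),
  ((3,23),[0],![1,0,0,1],![0,1,1,0]),
  ((3,24),[0,3],![1,0,1,0],![0,1,0,2]),
  ((3,25),[0,4],![1,0,1,0],![0,0,0,1]),
  ((3,26),[0],![1,0,0,1],![0,2,2,0]),
  ((3,27),[0,2],![1,0,0,1],![0,1,0,0]),
  ((4,5),[0,2,1,3],![0,1,1,1],![1,0,1,2]),
  ((4,6),[0],![0,1,2,1],![1,0,1,1]),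
  ((4,7),[0,2,1,3],![1,0,0,1],![0,0,1,0]),
  ((4,8),[0],![1,0,0,1],![0,1,1,0]),
  ((4,9),[0,4],![1,0,2,0],![0,2,0,1]),
  ((4,10),[0,2,1,3],![1,0,2,0],![0,1,0,0]),
  ((4,11),[0],![0,1,2,2],![1,0,2,1]),
  ((4,12),[0,0,2,0,3],![1,1,0,0],![0,0,0,2]),
  ((4,13),[0,2],![0,1,1,2],![1,0,0,0]),
  ((4,14),[0,0,2,0,4],![0,1,1,2],![0,0,2,2]),
  ((4,15),[0,3],![1,0,0,2],![0,2,2,0]),
  ((4,16),[0,3],![1,2,0,0],![0,0,1,0]),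
  ((4,17),[0,2],![1,1,0,0],![0,0,1,0]),
  ((4,18),[0,0,2,0,3],![1,1,0,0],![0,0,2,2]),
  ((4,19),[0],![1,0,0,2],![0,0,1,0]),
  ((4,20),[0],![1,0,0,2],![0,2,0,0]),
  ((4,21),[0,2],![1,0,1,0],![0,2,0,2]),
  ((4,22),[0,2],![0,1,1,2],![0,0,2,2]),
  ((4,23),[0],![1,0,0,1],![0,2,0,0]),
  ((4,24),[0,0,2,0,4],![0,1,2,2],![0,0,1,2]),
  ((4,25),[0],![1,2,0,0],![0,0,2,0]),
  ((4,26),[0],![1,0,0,1],![0,0,1,0]),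
  ((4,27),[0,2],![1,0,0,1],![0,2,2,0]),
  ((5,6),[0],![0,1,1,1],![2,0,0,0])]

theorem part1_good : ∀ e ∈ part1, Good e := by decide +kernel

/-- A part of the certificate. -/
def part2 : List Item := [
  ((5,7),[0],![0,1,1,2],![0,0,2,2]),
  ((5,8),[0,2,0,3,0,4],![0,1,2,1],![1,0,2,2]),
  ((5,9),[0,4],![0,1,2,2],![0,0,1,2]),
  ((5,10),[0,2],![1,0,1,0],![0,2,0,2]),
  ((5,11),[0],![1,0,0,1],![0,2,1,0]),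
  ((5,12),[0],![1,0,0,2],![0,1,0,0]),
  ((5,13),[0],![0,1,1,2],![2,0,1,1]),
  ((5,14),[0],![0,1,1,1],![2,0,1,2]),
  ((5,15),[0,0,2,0,3],![0,1,2,1],![0,0,1,1]),
  ((5,16),[0,3],![0,1,1,1],![1,0,1,2]),
  ((5,17),[0,2],![1,0,0,1],![0,2,0,0]),
  ((5,18),[0],![0,1,1,1],![0,0,1,2]),
  ((5,19),[0,2],![1,2,0,0],![0,0,1,2]),
  ((5,20),[0,0,2,0,4],![1,1,0,0],![0,0,1,2]),
  ((5,21),[0],![0,1,1,1],![1,0,0,0]),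
  ((5,22),[0,0,2,1,3],![1,0,0,2],![0,2,0,0]),
  ((5,23),[0,3],![1,0,0,1],![0,0,1,0]),
  ((5,24),[0,2,1,3],![1,0,1,0],![0,0,0,1]),
  ((5,25),[0,3],![0,1,2,2],![2,0,0,0]),
  ((5,26),[0,0,2,0,3],![1,0,1,0],![0,2,0,0]),
  ((5,27),[0,0,2,0,3],![0,1,2,2],![2,0,0,0]),
  ((6,7),[0,2,1,3],![1,0,2,0],![0,1,0,0]),
  ((6,8),[0,3],![1,0,0,1],![0,0,1,0]),
  ((6,9),[0],![1,0,2,0],![0,0,0,2]),
  ((6,10),[0],![1,0,1,0],![0,2,0,0]),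
  ((6,11),[0,0,2,1,3],![1,0,1,0],![0,1,0,2]),
  ((6,12),[0,0,2,0,3],![0,1,2,1],![0,0,1,1]),
  ((6,13),[0,0,2,0,3],![1,0,0,1],![0,2,2,0]),
  ((6,14),[0],![0,1,1,1],![0,0,1,2]),
  ((6,15),[0,2,1,3],![1,1,0,0],![0,0,1,2]),
  ((6,16),[0],![1,0,0,1],![0,1,0,0]),
  ((6,17),[0,2,1,3],![0,1,1,1],![1,0,1,2]),
  ((6,18),[0],![0,1,1,1],![1,0,1,2]),
  ((6,19),[0,2,1,3],![0,1,1,2],![0,0,2,2]),
  ((6,20),[0],![0,1,1,2],![1,0,1,1]),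
  ((6,21),[0],![0,1,1,1],![2,0,0,0]),
  ((6,22),[0,0,2,0,4],![0,1,2,2],![1,0,2,1]),
  ((6,23),[0,0,2,0,3],![1,1,0,0],![0,0,1,2]),
  ((6,24),[0,2],![1,2,0,0],![0,0,0,1]),
  ((6,25),[0,3],![1,2,0,0],![0,0,2,2]),
  ((6,26),[0],![1,2,0,0],![0,0,2,0]),
  ((6,27),[0,0,2,0,3],![0,1,1,1],![1,0,1,2]),
  ((7,8),[0],![1,0,0,2],![0,1,2,0]),
  ((7,9),[0,0,2,0,3],![0,1,1,2],![1,0,0,0]),
  ((7,10),[0,2],![1,0,0,2],![0,2,1,0]),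
  ((7,11),[0],![1,2,0,0],![0,0,1,1]),
  ((7,12),[0,2,1,3],![0,1,1,1],![1,0,1,2]),
  ((7,13),[0],![0,1,1,2],![2,0,2,2]),
  ((7,14),[0,2],![0,1,1,1],![1,0,0,0]),
  ((7,15),[0,0,2,0,3],![1,0,2,0],![0,0,0,2]),
  ((7,16),[0],![1,0,0,2],![0,1,1,0]),
  ((7,17),[0],![1,0,2,0],![0,1,0,1]),
  ((7,18),[0],![0,1,2,1],![0,0,1,1]),
  ((7,19),[0,0,2,0,3],![0,1,1,1],![1,0,2,1]),
  ((7,20),[0,2],![0,1,2,1],![1,0,1,1]),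
  ((7,21),[0,0,2,0,3],![0,1,2,2],![2,0,0,0]),
  ((7,22),[0],![1,0,0,2],![0,1,0,0]),
  ((7,23),[0],![0,1,2,1],![2,0,0,0]),
  ((7,24),[0,3],![1,0,0,1],![0,0,1,0]),
  ((7,25),[0],![1,0,1,0],![0,0,0,2]),
  ((7,26),[0,2,1,3],![1,1,0,0],![0,0,1,2]),
  ((7,27),[0,3],![1,0,0,1],![0,1,0,0]),
  ((8,9),[0],![1,0,1,0],![0,1,0,2])]

theorem part2_good : ∀ e ∈ part2, Good e := by decide +kernel

/-- A part of the certificate. -/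
def part3 : List Item := [
  ((8,10),[0],![0,1,1,1],![1,0,1,2]),
  ((8,11),[0,0,2,0,3],![1,1,0,0],![0,0,1,2]),
  ((8,12),[0,2,1,3],![1,0,2,0],![0,1,0,0]),
  ((8,13),[0,4],![1,0,2,0],![0,2,0,1]),
  ((8,14),[0],![0,1,2,1],![1,0,1,1]),
  ((8,15),[0,3],![0,1,1,1],![1,0,0,0]),
  ((8,16),[0],![1,0,0,2],![0,0,2,0]),
  ((8,17),[0,0,2,0,3],![0,1,1,1],![1,0,1,2]),
  ((8,18),[0,2,1,3],![0,1,1,1],![1,0,1,2]),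
  ((8,19),[0,3],![1,0,0,1],![0,1,0,0]),
  ((8,20),[0,0,2,0,3],![1,0,2,0],![0,0,0,2]),
  ((8,21),[0,0,2,1,3],![0,1,2,2],![1,0,2,1]),
  ((8,22),[0],![1,0,0,2],![0,0,1,0]),
  ((8,23),[0],![1,0,0,1],![0,1,2,0]),
  ((8,24),[0,2,1,3],![1,1,0,0],![0,0,1,2]),
  ((8,25),[0,2],![1,0,1,0],![0,2,0,0]),
  ((8,26),[0],![1,0,0,1],![0,2,0,0]),
  ((8,27),[0],![1,2,0,0],![0,0,2,2]),
  ((9,10),[0,3],![1,0,2,0],![0,0,0,2]),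
  ((9,11),[0,0,2,0,3],![0,1,2,2],![1,0,2,1]),
  ((9,12),[0,0,2,0,3],![0,1,2,1],![0,0,1,1]),
  ((9,13),[0],![1,1,0,0],![0,0,1,1]),
  ((9,14),[0,2,1,3],![0,1,2,1],![2,0,0,0]),
  ((9,15),[0],![1,2,0,0],![0,0,2,2]),
  ((9,16),[0,2],![1,2,0,0],![0,0,0,1]),
  ((9,17),[0],![0,1,1,1],![2,0,2,1]),
  ((9,18),[0,3],![1,0,0,2],![0,2,1,0]),
  ((9,19),[0],![0,1,2,1],![2,0,2,2]),
  ((9,20),[0,2,1,3],![1,1,0,0],![0,0,1,2]),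
  ((9,21),[0,2,1,3],![0,1,1,2],![0,0,2,2]),
  ((9,22),[0,0,2,0,4],![0,1,2,2],![0,0,1,2]),
  ((9,23),[0],![0,1,1,1],![0,0,2,1]),
  ((9,24),[0,2],![0,1,2,2],![1,0,2,1]),
  ((9,25),[0,2],![1,0,1,0],![0,1,0,1]),
  ((9,26),[0,2,1,3],![1,0,0,1],![0,0,1,0]),
  ((9,27),[0],![0,1,2,1],![0,0,2,2]),
  ((10,11),[0],![0,1,2,1],![2,0,2,2]),
  ((10,12),[0],![0,1,2,2],![2,0,0,0]),
  ((10,13),[0,0,2,0,4],![0,1,1,1],![1,0,1,2]),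
  ((10,14),[0,0,2,1,3],![1,2,0,0],![0,0,2,2]),
  ((10,15),[0],![0,1,2,2],![2,0,2,1]),
  ((10,16),[0],![0,1,2,1],![2,0,1,1]),
  ((10,17),[0,0,2,1,3],![0,1,2,2],![1,0,2,1]),
  ((10,18),[0,2,1,3],![1,0,1,0],![0,0,0,1]),
  ((10,19),[0],![1,0,2,0],![0,1,0,2]),
  ((10,20),[0,2],![1,0,0,1],![0,2,2,0]),
  ((10,21),[0,2],![1,0,0,2],![0,0,2,0]),
  ((10,22),[0,2],![1,0,0,2],![0,1,1,0]),
  ((10,23),[0,0,2,0,3],![1,0,2,0],![0,2,0,1]),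
  ((10,24),[0],![1,0,2,0],![0,0,0,1]),
  ((10,25),[0,2,1,3],![0,1,2,1],![2,0,0,0]),
  ((10,26),[0],![1,0,2,0],![0,1,0,0]),
  ((10,27),[0,0,2,0,4],![1,1,0,0],![0,0,0,2]),
  ((11,12),[0,2],![1,0,1,0],![0,0,0,1]),
  ((11,13),[0,3],![0,1,1,2],![1,0,1,1]),
  ((11,14),[0,4],![1,0,0,1],![0,2,2,0]),
  ((11,15),[0],![1,0,1,0],![0,0,0,2]),
  ((11,16),[0],![0,1,2,1],![0,0,2,2]),
  ((11,17),[0],![0,1,1,2],![0,0,2,2]),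
  ((11,18),[0],![1,0,1,0],![0,1,0,2]),
  ((11,19),[0,2,1,3],![0,1,1,1],![1,0,1,2]),
  ((11,20),[0],![1,0,1,0],![0,1,0,0]),
  ((11,21),[0,2,1,3],![1,0,1,0],![0,0,0,1])]

theorem part3_good : ∀ e ∈ part3, Good e := by decide +kernel

/-- A part of the certificate. -/
def part4 : List Item := [
  ((11,22),[0,0,2,0,4],![1,1,0,0],![0,0,1,2]),
  ((11,23),[0,3],![1,0,0,1],![0,1,0,0]),
  ((11,24),[0,2,1,3],![1,0,2,0],![0,1,0,0]),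
  ((11,25),[0,0,2,0,4],![1,0,2,0],![0,2,0,1]),
  ((11,26),[0],![0,1,1,2],![2,0,2,2]),
  ((11,27),[0,2,1,3],![1,2,0,0],![0,0,1,0]),
  ((12,13),[0,2],![0,1,1,1],![1,0,2,1]),
  ((12,14),[0],![1,0,1,0],![0,1,0,0]),
  ((12,15),[0],![0,1,2,2],![0,0,2,1]),
  ((12,16),[0,2],![1,0,1,0],![0,2,0,2]),
  ((12,17),[0],![1,0,1,0],![0,2,0,0]),
  ((12,18),[0,3],![0,1,2,1],![1,0,1,1]),
  ((12,19),[0],![0,1,1,2],![2,0,0,0]),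
  ((12,20),[0],![1,0,0,1],![0,1,1,0]),
  ((12,21),[0,2,1,3],![1,0,2,0],![0,1,0,0]),
  ((12,22),[0],![1,0,2,0],![0,1,0,2]),
  ((12,23),[0,2,1,3],![0,1,1,2],![0,0,2,2]),
  ((12,24),[0,0,2,0,3],![1,0,0,1],![0,0,1,0]),
  ((12,25),[0],![0,1,1,2],![0,0,2,2]),
  ((12,26),[0,0,2,0,3],![1,0,2,0],![0,2,0,1]),
  ((12,27),[0],![1,1,0,0],![0,0,1,2]),
  ((13,14),[0],![1,0,2,0],![0,0,0,1]),
  ((13,15),[0],![0,1,1,1],![1,0,0,0]),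
  ((13,16),[0,2,1,3],![0,1,1,2],![0,0,2,2]),
  ((13,17),[0,4],![0,1,2,2],![1,0,2,1]),
  ((13,18),[0,2],![1,0,2,0],![0,1,0,0]),
  ((13,19),[0,2,1,3],![1,0,1,0],![0,0,0,1]),
  ((13,20),[0],![0,1,2,1],![2,0,0,0]),
  ((13,21),[0,0,2,0,3],![1,0,2,0],![0,0,0,2]),
  ((13,22),[0],![0,1,2,1],![2,0,2,2]),
  ((13,23),[0,0,2,1,3],![1,1,0,0],![0,0,0,2]),
  ((13,24),[0],![1,2,0,0],![0,0,2,1]),
  ((13,25),[0],![0,1,1,1],![1,0,1,2]),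
  ((13,26),[0],![0,1,1,1],![0,0,2,1]),
  ((13,27),[0],![1,0,0,1],![0,2,2,0]),
  ((14,15),[0,2],![1,0,2,0],![0,1,0,1]),
  ((14,16),[0,2],![1,0,1,0],![0,1,0,2]),
  ((14,17),[0],![1,0,1,0],![0,1,0,0]),
  ((14,18),[0],![0,1,1,1],![1,0,0,0]),
  ((14,19),[0,0,2,0,3],![1,0,2,0],![0,2,0,1]),
  ((14,20),[0,2],![1,0,2,0],![0,2,0,2]),
  ((14,21),[0],![0,1,1,1],![2,0,2,1]),
  ((14,22),[0,2,1,3],![0,1,1,2],![0,0,2,2]),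
  ((14,23),[0,3],![0,1,2,1],![1,0,1,1]),
  ((14,24),[0,0,2,0,3],![0,1,2,2],![1,0,2,1]),
  ((14,25),[0,2,1,3],![1,0,0,1],![0,0,1,0]),
  ((14,26),[0,0,2,0,3],![1,1,0,0],![0,0,1,2]),
  ((14,27),[0,4],![1,0,0,1],![0,0,1,0]),
  ((15,16),[0,2],![1,2,0,0],![0,0,1,2]),
  ((15,17),[0,0,2,1,3],![0,1,1,1],![1,0,0,0]),
  ((15,18),[0],![1,0,1,0],![0,1,0,0]),
  ((15,19),[0,3],![1,0,2,0],![0,1,0,0]),
  ((15,20),[0],![1,0,1,0],![0,1,0,1]),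
  ((15,21),[0],![1,0,0,2],![0,2,0,0]),
  ((15,22),[0,2,1,3],![0,1,1,2],![0,0,2,2]),
  ((15,23),[0,2,1,3],![0,1,2,2],![0,0,1,2]),
  ((15,24),[0,0,2,0,3],![0,1,1,2],![0,0,2,2]),
  ((15,25),[0],![0,1,1,1],![0,0,1,2]),
  ((15,26),[0],![0,1,1,1],![2,0,2,1]),
  ((15,27),[0],![1,0,0,2],![0,1,1,0]),
  ((16,17),[0],![0,1,2,2],![0,0,2,1]),
  ((16,18),[0,3],![0,1,1,1],![1,0,0,0]),
  ((16,19),[0,0,2,0,3],![0,1,1,1],![1,0,2,1])]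

theorem part4_good : ∀ e ∈ part4, Good e := by decide +kernel

/-- A part of the certificate. -/
def part5 : List Item := [
  ((16,20),[0,0,2,0,3],![1,1,0,0],![0,0,1,2]),
  ((16,21),[0,2],![1,1,0,0],![0,0,1,0]),
  ((16,22),[0],![1,0,0,2],![0,0,2,0]),
  ((16,23),[0,2,1,3],![0,1,2,2],![0,0,1,2]),
  ((16,24),[0],![0,1,2,2],![1,0,2,1]),
  ((16,25),[0,4],![1,0,0,1],![0,0,1,0]),
  ((16,26),[0,0,2,0,3],![1,0,0,1],![0,1,0,0]),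
  ((16,27),[0,0,2,0,3],![1,1,0,0],![0,0,2,2]),
  ((17,18),[0,2,1,3],![0,1,1,2],![0,0,2,2]),
  ((17,19),[0,0,2,0,3],![1,1,0,0],![0,0,1,2]),
  ((17,20),[0,2,1,3],![0,1,2,1],![2,0,0,0]),
  ((17,21),[0,3],![1,0,0,1],![0,0,1,0]),
  ((17,22),[0,2],![0,1,2,1],![1,0,1,1]),
  ((17,23),[0],![0,1,1,1],![1,0,0,0]),
  ((17,24),[0],![0,1,2,2],![1,0,0,0]),
  ((17,25),[0,0,2,0,3],![0,1,1,2],![2,0,1,1]),
  ((17,26),[0],![0,1,1,2],![2,0,0,0]),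
  ((17,27),[0,2,1,3],![1,0,2,0],![0,1,0,0]),
  ((18,19),[0,2],![1,0,0,2],![0,2,1,0]),
  ((18,20),[0],![1,0,1,0],![0,0,0,1]),
  ((18,21),[0],![0,1,1,1],![1,0,2,1]),
  ((18,22),[0,2],![1,2,0,0],![0,0,1,2]),
  ((18,23),[0],![0,1,2,1],![2,0,2,2]),
  ((18,24),[0,0,2,1,3],![1,0,2,0],![0,2,0,1]),
  ((18,25),[0,0,2,0,3],![1,0,0,2],![0,2,0,0]),
  ((18,26),[0,3],![1,0,0,1],![0,0,1,0]),
  ((18,27),[0,0,2,1,3],![0,1,2,2],![1,0,2,1]),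
  ((19,20),[0],![1,0,0,2],![0,2,2,0]),
  ((19,21),[0],![1,0,0,1],![0,2,1,0]),
  ((19,22),[0],![1,0,1,0],![0,2,0,1]),
  ((19,23),[0,3],![0,1,2,2],![0,0,1,2]),
  ((19,24),[0],![1,0,2,0],![0,2,0,2]),
  ((19,25),[0],![0,1,1,2],![1,0,2,2]),
  ((19,26),[0],![1,0,2,0],![0,0,0,1]),
  ((19,27),[0],![0,1,2,1],![1,0,0,0]),
  ((20,21),[0,3],![0,1,1,1],![1,0,1,2]),
  ((20,22),[0],![0,1,2,1],![0,0,2,2]),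
  ((20,23),[0],![1,1,0,0],![0,0,0,1]),
  ((20,24),[0],![1,1,0,0],![0,0,1,2]),
  ((20,25),[0,2],![1,0,0,1],![0,2,1,0]),
  ((20,26),[0,0,2,0,4],![1,1,0,0],![0,0,0,2]),
  ((20,27),[0,0,2,0,3],![1,0,0,2],![0,2,2,0]),
  ((21,22),[0],![1,1,0,0],![0,0,2,1]),
  ((21,23),[0,2,0,3,0,4],![0,1,2,1],![1,0,2,2]),
  ((21,24),[0],![0,1,1,2],![0,0,1,1]),
  ((21,25),[0,2],![0,1,2,1],![0,0,1,1]),
  ((21,26),[0,0,2,0,4],![1,0,1,0],![0,1,0,2]),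
  ((21,27),[0],![1,0,0,2],![0,2,1,0]),
  ((22,23),[0,2],![0,1,1,2],![1,0,1,1]),
  ((22,24),[0,2,1,3],![0,1,1,2],![0,0,2,2]),
  ((22,25),[0,0,2,0,3],![1,1,0,0],![0,0,2,2]),
  ((22,26),[0,3],![0,1,2,2],![0,0,1,2]),
  ((22,27),[0,3],![1,2,0,0],![0,0,0,1]),
  ((23,24),[0],![1,1,0,0],![0,0,1,1]),
  ((23,25),[0,2,1,3],![1,2,0,0],![0,0,1,0]),
  ((23,26),[0],![1,0,0,1],![0,1,1,0]),
  ((23,27),[0],![0,1,1,2],![0,0,2,2]),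
  ((24,25),[0,2],![0,1,1,1],![0,0,1,2]),
  ((24,26),[0],![1,0,2,0],![0,1,0,2]),
  ((24,27),[0],![1,0,1,0],![0,2,0,2]),
  ((25,26),[0],![0,1,1,1],![2,0,1,2]),
  ((25,27),[0,2,1,3],![0,1,2,2],![0,0,1,2]),
  ((26,27),[0,2],![1,0,0,1],![0,2,1,0])]

theorem part5_good : ∀ e ∈ part5, Good e := by decide +kernel

/-- The certificate. -/
def items : List Item := part0 ++ part1 ++ part2 ++ part3 ++ part4 ++ part5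

theorem items_good : ∀ e ∈ items, Good e := by
  simp only [items, List.mem_append]
  rintro e (((((h | h) | h) | h) | h) | h)
  · exact part0_good e h
  · exact part1_good e h
  · exact part2_good e h
  · exact part3_good e h
  · exact part4_good e h
  · exact part5_good e h

theorem items_cover : ∀ i j : Fin 28, i < j → (i, j) ∈ items.map Prod.fst := by decide +kernel

theorem hs_iso : ∀ i, (hs i).transpose * gM * hs i = gM ∧ (hs i).det = 1 := by decide +kernel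

theorem sM_iso : sM.transpose * gM * sM = gM ∧ sM.det = 1 := by decide +kernel

theorem sM_pow : sM * sM * sM * sM * sM = 1 ∧ sM ≠ 1 := by decide +kernel

theorem adj_mul : ∀ i, adj (hs i) * hs i = 1 := by decide +kernel

end Cfsg.Agent.MaxSub.OrthFour.HalfThree.Cert
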